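import Mathlib
import Cfsg.Prelude.Def_OddOrderLocal

/-!
Bender–Glauberman Lemma 9.5 (S1402) as a team project (helper41): definitions and the exact
statements of the packages.  Each package is a `Prop`; a package is delivered as a theorem
`pkgX : PkgX.{u}` in its own file.  `Assembly.lean` derives S1402 from the packages.

Notation of the proof (note 1899): `A ∈ SCN_3(P)`, `K = O_{p'}(C_G(A))` (`kOf A`), a *base* is a
coatom `M ≥ A`, `K ≤ M`, with `r_s(F(M)) ≥ 3` for a prime `s ≠ p`.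
-/

set_option autoImplicit false

namespace Cfsg.Agent.Lib.Helper41.BG95

open Cfsg

universe u

/-- `K = O_{p'}(C_G(A))` in the form used by S1393/S1395. -/
def kOf {G : Type u} [Group G] (A : Subgroup G) : Subgroup G :=
  piCoreOf (primesNotDvd (Nat.card A)) (Subgroup.centralizer (A : Set G))

/-- `(M, s)` is a base for `A`: a coatom over `A` and `K` with `r_s(F(M)) ≥ 3`, `s ≠ p`. -/
structure IsBase {G : Type u} [Group G] (p : ℕ) (A M : Subgroup G) (s : ℕ) : Prop where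
  coatom : IsCoatom M
  le : A ≤ M
  kle : kOf A ≤ M
  prime : s.Prime
  ne : s ≠ p
  fat : ¬ PRankLE s 2 ↥(fittingOf M)

/-- Package V: a fat coatom has a normal `s`-subgroup of rank at least 3 (e.g. `O_s(M)`). -/
def PkgV : Prop :=
  ∀ (G : Type u) [Group G] [Finite G] (_hG : IsMinSimpleOddOrder G) (M : Subgroup G)
    (_hM : IsCoatom M) (s : ℕ) [Fact s.Prime] (_hF : ¬ PRankLE s 2 ↥(fittingOf M)),
    ∃ V : Subgroup G, V ≤ M ∧ M ≤ Subgroup.normalizer (V : Set G) ∧ IsPGroup s V ∧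
      ¬ PRankLE s 2 ↥V

/-- Package A: the three properties of a base `(M, s)` (with `V` as in package V):
(a) `N_G(R) ≤ M` for every `p`-subgroup `R ≥ A`;
(b) every `A`-invariant `s`-subgroup of `G` lies in `M`;
(c) every proper subgroup over `A` of `s`-rank at least 3 lies in `M`. -/
def PkgA : Prop :=
  ∀ (G : Type u) [Group G] [Finite G] (_hG : IsMinSimpleOddOrder G) (p : ℕ) [Fact p.Prime]
    (P : Sylow p G) (A : Subgroup G) (_hA : IsSCN (P : Subgroup G) A) (_hA3 : ¬ PRankLE p 2 ↥A)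
    (M : Subgroup G) (s : ℕ) (_hB : IsBase p A M s) (V : Subgroup G) (_hVM : V ≤ M)
    (_hMV : M ≤ Subgroup.normalizer (V : Set G)) (_hVs : IsPGroup s V) (_hV3 : ¬ PRankLE s 2 ↥V),
    (∀ R : Subgroup G, IsPGroup p R → A ≤ R → Subgroup.normalizer (R : Set G) ≤ M) ∧
    (∀ Y : Subgroup G, IsPGroup s Y → A ≤ Subgroup.normalizer (Y : Set G) → Y ≤ M) ∧
    (∀ X : Subgroup G, X ≠ ⊤ → A ≤ X → ¬ PRankLE s 2 ↥X → X ≤ M)

/-- Package B: `X0 = Z_2(V)` — a normal subgroup of `M` inside `V`, lying in a unique maximal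
subgroup, such that every element of order `s` of `X0` has its centralizer inside `M`. -/
def PkgB : Prop :=
  ∀ (G : Type u) [Group G] [Finite G] (_hG : IsMinSimpleOddOrder G) (M : Subgroup G)
    (_hM : IsCoatom M) (s : ℕ) [Fact s.Prime] (_hF : ¬ PRankLE s 2 ↥(fittingOf M))
    (V : Subgroup G) (_hVM : V ≤ M) (_hMV : M ≤ Subgroup.normalizer (V : Set G))
    (_hVs : IsPGroup s V) (_hV3 : ¬ PRankLE s 2 ↥V),
    ∃ X0 : Subgroup G, X0 ≤ V ∧ M ≤ Subgroup.normalizer (X0 : Set G) ∧ InUniqueMaximal X0 ∧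
      ∀ x ∈ X0, x ≠ 1 → x ^ s = 1 → Subgroup.centralizer ({x} : Set G) ≤ M

/-- Package C (a thin coatom is harmless): if `H` is a coatom over `A` with `r(F(H)) ≤ 2` whose
derived subgroup contains an element `x` of order `s` with `C_G(x) ≤ M`, and `M` has properties
(a), (b) of package A, then `H ≤ M`. -/
def PkgC : Prop :=
  ∀ (G : Type u) [Group G] [Finite G] (_hG : IsMinSimpleOddOrder G) (p s : ℕ) [Fact p.Prime]
    [Fact s.Prime] (A M H : Subgroup G) (_hAp : IsPGroup p A) (_hH : IsCoatom H) (_hAH : A ≤ H)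
    (_ha : ∀ R : Subgroup G, IsPGroup p R → A ≤ R → Subgroup.normalizer (R : Set G) ≤ M)
    (_hb : ∀ Y : Subgroup G, IsPGroup s Y → A ≤ Subgroup.normalizer (Y : Set G) → Y ≤ M)
    (_hthin : RankLE 2 ↥(fittingOf H)) (x : G) (_hx : x ∈ ⁅H, H⁆) (_hx1 : x ≠ 1)
    (_hxs : x ^ s = 1) (_hCx : Subgroup.centralizer ({x} : Set G) ≤ M),
    H ≤ M

/-- Package D (the S1450 trick): in a proper subgroup `H` of `s`-rank at most 2, an element of
`[H, H]` of order prime to `s` centralizes every `s`-subgroup of `H` that it normalizes. -/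
def PkgD : Prop :=
  ∀ (G : Type u) [Group G] [Finite G] (_hG : IsMinSimpleOddOrder G) (s : ℕ) [Fact s.Prime]
    (H : Subgroup G) (_hH : H ≠ ⊤) (_hr : PRankLE s 2 ↥H) (a : G) (_ha : a ∈ ⁅H, H⁆)
    (_hao : (orderOf a).Coprime s) (W : Subgroup G) (_hW : IsPGroup s W) (_hWH : W ≤ H)
    (_haW : a ∈ Subgroup.normalizer (W : Set G)),
    a ∈ Subgroup.centralizer (W : Set G)

/-- Package E (Burnside): `A ∩ [N_G(A), N_G(A)]` contains an element of order `p`. -/
def PkgE : Prop :=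
  ∀ (G : Type u) [Group G] [Finite G] (_hG : IsMinSimpleOddOrder G) (p : ℕ) [Fact p.Prime]
    (P : Sylow p G) (A : Subgroup G) (_hA : IsSCN (P : Subgroup G) A) (_hA1 : A ≠ ⊥),
    ∃ e ∈ A, e ≠ 1 ∧ e ^ p = 1 ∧
      e ∈ ⁅Subgroup.normalizer (A : Set G), Subgroup.normalizer (A : Set G)⁆

/-- Package F (helper49's (H2), the largest prime): if every coatom over `C_G(b)`, `b ∈ A` of
order `p`, has `r(F) ≤ 2`, then `A` lies in a unique maximal subgroup. -/
def PkgF : Prop :=
  ∀ (G : Type u) [Group G] [Finite G] (_hG : IsMinSimpleOddOrder G) (p : ℕ) [Fact p.Prime]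
    (P : Sylow p G) (A : Subgroup G) (_hA : IsSCN (P : Subgroup G) A) (_hA3 : ¬ PRankLE p 2 ↥A)
    (_hthin : ∀ b ∈ A, b ≠ 1 → b ^ p = 1 → ∀ H : Subgroup G, IsCoatom H →
      Subgroup.centralizer ({b} : Set G) ≤ H → RankLE 2 ↥(fittingOf H)),
    InUniqueMaximal A

/-- Package G (coprime generation in rank 3): a `p'`-group `X` normalized by an elementary
abelian `p`-group `E` of order at least `p ^ 3` is generated by the `C_X(D)`, `D ≤ E` noncyclic. -/
def PkgG : Prop :=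
  ∀ (G : Type u) [Group G] [Finite G] (p : ℕ) [Fact p.Prime] (E X Y : Subgroup G)
    (_hE : IsElementaryAbelian p E) (_hE3 : p ^ 3 ≤ Nat.card E) (_hX : ¬ p ∣ Nat.card X)
    (_hEX : E ≤ Subgroup.normalizer (X : Set G))
    (_hY : ∀ D : Subgroup G, D ≤ E → ¬ IsCyclic D → X ⊓ Subgroup.centralizer (D : Set G) ≤ Y),
    X ≤ Y

end Cfsg.Agent.Lib.Helper41.BG95
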