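import Mathlib
import Cfsg.Prelude.Def_OddOrderLocal
import Cfsg.Agent.Lib.Helper41.BG95.Defs
import Cfsg.Agent.S1398
import Cfsg.Agent.S1399
import Cfsg.Agent.S1401
import Cfsg.Agent.Lib.Helper61.BG9a
import Cfsg.Agent.Lib.Helper61.BG9c

/-!
Bender–Glauberman Lemma 9.5 (S1402): assembly from the packages of `Defs.lean` (helper41).
-/

set_option autoImplicit false
set_option maxHeartbeats 1000000

namespace Cfsg.Agent.Lib.Helper41.BG95

open Cfsg
open Cfsg.Agent.Lib.Helper61

universe u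

/-- a coatom of a group is a proper subgroup -/
theorem centralizer_singleton_ne_top {G : Type u} [Group G] (hs : IsSimpleGroup G)
    (hnc : ¬ IsMulCommutative G) {b : G} (hb : b ≠ 1) :
    Subgroup.centralizer ({b} : Set G) ≠ ⊤ := by
  intro htop
  have hbc : b ∈ Subgroup.center G := by
    rw [Subgroup.mem_center_iff]
    intro g
    have hg : g ∈ Subgroup.centralizer ({b} : Set G) := by rw [htop]; exact Subgroup.mem_top g
    exact (Subgroup.mem_centralizer_iff.mp hg b (Set.mem_singleton b)).symm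
  rcases (inferInstance : (Subgroup.center G).Normal).eq_bot_or_eq_top with h | h
  · rw [h, Subgroup.mem_bot] at hbc
    exact hb hbc
  · apply hnc
    refine ⟨⟨fun a c => ?_⟩⟩
    have ha : a ∈ Subgroup.center G := by rw [h]; exact Subgroup.mem_top a
    exact (Subgroup.mem_center_iff.mp ha c).symm

theorem s1402_of_pkgs (hV : PkgV.{u}) (hPA : PkgA.{u}) (hPB : PkgB.{u}) (hPC : PkgC.{u})
    (hPD : PkgD.{u}) (hPE : PkgE.{u}) (hPF : PkgF.{u}) (hPG : PkgG.{u})
    {G : Type u} [Group G] [Finite G] (hG : IsMinSimpleOddOrder G)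
    (p : ℕ) [Fact p.Prime] (P : Sylow p G) (A : Subgroup G) (hA : IsSCN (P : Subgroup G) A)
    (hA3 : ¬ PRankLE p 2 ↥A) : InUniqueMaximal A := by
  classical
  by_contra hnU
  have hp : p.Prime := Fact.out
  have hs : IsSimpleGroup G := hG.2.1
  have hnc : ¬ IsMulCommutative G := hG.2.2.1
  have hAcomm : ∀ a ∈ A, ∀ b ∈ A, a * b = b * a := bg_isSCN_comm hA
  have hAp : IsPGroup p A := P.isPGroup'.to_le hA.1
  have hAc : IsMulCommutative A := ⟨⟨fun a b => Subtype.ext (hAcomm a a.2 b b.2)⟩⟩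
  have hA1 : A ≠ ⊥ := by
    rintro rfl
    apply hA3
    intro D _ _
    have h1 : Nat.card D = 1 := by
      have : Subsingleton (↥(⊥ : Subgroup G)) := inferInstance
      have : Subsingleton ↥D := inferInstance
      exact Nat.card_of_subsingleton (1 : ↥D)
    rw [h1]
    exact Nat.one_le_pow _ _ hp.pos
  have hAtop : A ≠ ⊤ := by
    rintro rfl
    apply hnc
    exact ⟨⟨fun a b => hAcomm a (Subgroup.mem_top a) b (Subgroup.mem_top b)⟩⟩
  -- the subgroup E = Ω₁(A)
  let E : Subgroup G :=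
    { carrier := {x | x ∈ A ∧ x ^ p = 1}
      mul_mem' := by
        rintro a b ⟨ha, hap⟩ ⟨hb, hbp⟩
        refine ⟨A.mul_mem ha hb, ?_⟩
        have hc : Commute a b := hAcomm a ha b hb
        rw [hc.mul_pow, hap, hbp, one_mul]
      one_mem' := ⟨A.one_mem, one_pow p⟩
      inv_mem' := by
        rintro a ⟨ha, hap⟩
        exact ⟨A.inv_mem ha, by rw [inv_pow, hap, inv_one]⟩ }
  have hmemE : ∀ x, x ∈ E ↔ x ∈ A ∧ x ^ p = 1 := fun x => Iff.rfl
  have hEA : E ≤ A := fun x hx => hx.1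
  have hEEA : IsElementaryAbelian p E :=
    bg_isEA_of_forall (fun a ha b hb => hAcomm a ha.1 b hb.1) (fun a ha => ha.2)
  have hEp : IsPGroup p E := bg_isPGroup_of_isEA hEEA
  have hEcard : p ^ 2 < Nat.card E := by
    obtain ⟨D, hDe, hDA, hDc⟩ := bg_exists_EA_of_not_pRankLE hA3
    have hDE : D ≤ E := fun x hx => ⟨hDA hx, hDe.2 x hx⟩
    exact lt_of_lt_of_le hDc (Subgroup.card_le_of_le hDE)
  have hE3 : p ^ 3 ≤ Nat.card E := by
    obtain ⟨k, hk⟩ := IsPGroup.iff_card.mp hEp
    rw [hk] at hEcard ⊢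
    have h2 : 2 < k := (Nat.pow_lt_pow_iff_right hp.one_lt).mp hEcard
    exact Nat.pow_le_pow_right hp.pos h2
  have hEnr : ¬ RankLE 1 ↥E := by
    apply bg_not_rankLE_one hp hEEA le_rfl
    have : p ^ 1 < p ^ 2 := Nat.pow_lt_pow_right hp.one_lt (by norm_num)
    rw [pow_one] at this
    omega
  -- centralizers of elements of A
  have hKA : kOf A ≤ Subgroup.centralizer (A : Set G) := by
    unfold kOf piCoreOf
    exact Subgroup.map_subtype_le _
  have hAb : ∀ b ∈ A, A ≤ Subgroup.centralizer ({b} : Set G) := by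
    intro b hb a ha
    rw [Subgroup.mem_centralizer_iff]
    intro y hy
    rw [Set.mem_singleton_iff] at hy
    subst hy
    exact hAcomm y hb a ha
  have hKb : ∀ b ∈ A, kOf A ≤ Subgroup.centralizer ({b} : Set G) := by
    intro b hb
    refine hKA.trans (Subgroup.centralizer_le ?_)
    intro y hy
    rw [Set.mem_singleton_iff] at hy
    subst hy
    exact hb
  -- consequences of `A ∉ 𝒰`
  have hno1401 : ∀ M : Subgroup G, IsCoatom M → PRankLE p 2 ↥(fittingOf M) := by
    intro M hM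
    by_contra hF
    exact hnU (Cfsg.Agent.S1401.result hG M hM p hF A hAp hAc hA3)
  have hnoD : ∀ M : Subgroup G, IsCoatom M → A ≤ M → ∀ D : Subgroup G, D ≤ E → ¬ IsCyclic D →
      ∃ b ∈ D, b ≠ 1 ∧ ¬ Subgroup.centralizer ({b} : Set G) ≤ M := by
    intro M hM hAM D hDE hDnc
    by_contra hcon
    push Not at hcon
    have hDe : IsElementaryAbelian p D :=
      bg_isEA_of_forall (fun a ha b hb => hAcomm a (hEA (hDE ha)) b (hEA (hDE hb)))
        (fun a ha => (hDE ha).2)
    have hDU : InUniqueMaximal D :=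
      Cfsg.Agent.S1398.result hG M hM p D ((hDE.trans hEA).trans hAM) hDe hDnc (Or.inl hcon)
    exact hnU (bg_unique_of_le hDU (hDE.trans hEA) hM hAM)
  -- the element e1
  obtain ⟨e1, he1A, he1ne, he1p, he1c⟩ := hPE G hG p P A hA hA1
  have he1o : orderOf e1 = p := by
    have h1 : orderOf e1 ∣ p := orderOf_dvd_of_pow_eq_one he1p
    rcases (Nat.dvd_prime hp).mp h1 with h | h
    · exact absurd (orderOf_eq_one_iff.mp h) he1ne
    · exact h
  -- data attached to a base
  have hdata : ∀ (M : Subgroup G) (s : ℕ), IsBase p A M s →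
      ∃ X0 : Subgroup G, X0 ≤ M ∧ M ≤ Subgroup.normalizer (X0 : Set G) ∧ IsPGroup s X0 ∧
        InUniqueMaximal X0 ∧
        (∀ x ∈ X0, x ≠ 1 → x ^ s = 1 → Subgroup.centralizer ({x} : Set G) ≤ M) ∧
        (∀ R : Subgroup G, IsPGroup p R → A ≤ R → Subgroup.normalizer (R : Set G) ≤ M) ∧
        (∀ Y : Subgroup G, IsPGroup s Y → A ≤ Subgroup.normalizer (Y : Set G) → Y ≤ M) ∧
        (∀ X : Subgroup G, X ≠ ⊤ → A ≤ X → ¬ PRankLE s 2 ↥X → X ≤ M) := by
    intro M s hB
    haveI : Fact s.Prime := ⟨hB.prime⟩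
    obtain ⟨V, hVM, hMV, hVs, hV3⟩ := hV G hG M hB.coatom s hB.fat
    obtain ⟨ha, hb, hc⟩ := hPA G hG p P A hA hA3 M s hB V hVM hMV hVs hV3
    obtain ⟨X0, hX0V, hMX0, hX0U, hX0c⟩ := hPB G hG M hB.coatom s hB.fat V hVM hMV hVs hV3
    exact ⟨X0, hX0V.trans hVM, hMX0, hVs.to_le hX0V, hX0U, hX0c, ha, hb, hc⟩
  -- the main step: a non-commuting pair produces a second base
  have hstep : ∀ (M : Subgroup G) (s : ℕ), IsBase p A M s → ∀ X0 : Subgroup G, X0 ≤ M →
      M ≤ Subgroup.normalizer (X0 : Set G) → IsPGroup s X0 →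
      (∀ x ∈ X0, x ≠ 1 → x ^ s = 1 → Subgroup.centralizer ({x} : Set G) ≤ M) →
      (∀ R : Subgroup G, IsPGroup p R → A ≤ R → Subgroup.normalizer (R : Set G) ≤ M) →
      (∀ Y : Subgroup G, IsPGroup s Y → A ≤ Subgroup.normalizer (Y : Set G) → Y ≤ M) →
      (∀ X : Subgroup G, X ≠ ⊤ → A ≤ X → ¬ PRankLE s 2 ↥X → X ≤ M) →
      ∀ D : Subgroup G, D ≤ E → ¬ IsCyclic D → ∀ e ∈ A,
      ∀ x ∈ X0 ⊓ Subgroup.centralizer (D : Set G), e * x ≠ x * e →
      ∃ (H : Subgroup G) (t : ℕ), IsBase p A H t ∧ H ≠ M ∧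
        X0 ⊓ Subgroup.centralizer (D : Set G) ≤ H ∧ PRankLE s 2 ↥H := by
    intro M s hB X0 hX0M hMX0 hX0s hX0c ha hb hc D hDE hDnc e heA x hx hne
    haveI : Fact s.Prime := ⟨hB.prime⟩
    have hsp : s.Prime := hB.prime
    obtain ⟨b, hbD, hb1, hbM⟩ := hnoD M hB.coatom hB.le D hDE hDnc
    have hbA : b ∈ A := hEA (hDE hbD)
    obtain ⟨H, hH, hCH⟩ := bg_exists_isCoatom_ge (centralizer_singleton_ne_top hs hnc hb1)
    have hHM : H ≠ M := by
      rintro rfl
      exact hbM hCH
    have hAH : A ≤ H := (hAb b hbA).trans hCH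
    have hKH : kOf A ≤ H := (hKb b hbA).trans hCH
    have hDb : Subgroup.centralizer (D : Set G) ≤ Subgroup.centralizer ({b} : Set G) := by
      apply Subgroup.centralizer_le
      intro y hy
      rw [Set.mem_singleton_iff] at hy
      subst hy
      exact hbD
    have hle : X0 ⊓ Subgroup.centralizer (D : Set G) ≤ H := (inf_le_right.trans hDb).trans hCH
    have hxH : x ∈ H := hle hx
    have heH : e ∈ H := hAH heA
    -- the commutator
    have heN : e ∈ Subgroup.normalizer (X0 : Set G) := hMX0 (hB.le heA)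
    have hcX0 : e * x * e⁻¹ * x⁻¹ ∈ X0 :=
      X0.mul_mem ((Subgroup.mem_normalizer_iff.mp heN x).mp hx.1) (X0.inv_mem hx.1)
    have hc1 : e * x * e⁻¹ * x⁻¹ ≠ 1 := by
      intro h
      apply hne
      have : e * x = (e * x * e⁻¹ * x⁻¹) * (x * e) := by group
      rw [this, h, one_mul]
    have hcH : e * x * e⁻¹ * x⁻¹ ∈ ⁅H, H⁆ := by
      have := Subgroup.commutator_mem_commutator heH hxH
      rwa [commutatorElement_def] at this
    set c : G := e * x * e⁻¹ * x⁻¹ with hcdef
    -- an element of order `s` in `⟨c⟩`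
    have hso : s ∣ orderOf c := by
      obtain ⟨k, hk⟩ := hX0s ⟨c, hcX0⟩
      have hk' : c ^ (s ^ k) = 1 := congrArg Subtype.val hk
      have h1 : orderOf c ∣ s ^ k := orderOf_dvd_of_pow_eq_one hk'
      obtain ⟨j, -, hj⟩ := (Nat.dvd_prime_pow hsp).mp h1
      have hj0 : j ≠ 0 := by
        rintro rfl
        rw [pow_zero] at hj
        exact hc1 (orderOf_eq_one_iff.mp hj)
      rw [hj]
      exact dvd_pow_self s hj0
    have hco : orderOf c ≠ 0 := (orderOf_pos c).ne'
    have hx'o : orderOf (c ^ (orderOf c / s)) = s := orderOf_pow_orderOf_div hco hso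
    set x' : G := c ^ (orderOf c / s) with hx'def
    have hx'1 : x' ≠ 1 := by
      intro h
      rw [h, orderOf_one] at hx'o
      exact hsp.one_lt.ne hx'o
    have hx's : x' ^ s = 1 := by
      rw [← hx'o]
      exact pow_orderOf_eq_one x'
    have hx'X0 : x' ∈ X0 := X0.pow_mem hcX0 _
    have hx'H : x' ∈ ⁅H, H⁆ := Subgroup.pow_mem _ hcH _
    have hCx' : Subgroup.centralizer ({x'} : Set G) ≤ M := hX0c x' hx'X0 hx'1 hx's
    -- `H` is not thin
    have hnthin : ¬ RankLE 2 ↥(fittingOf H) := by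
      intro hthin
      have hHleM : H ≤ M := hPC G hG p s A M H hAp hH hAH ha hb hthin x' hx'H hx'1 hx's hCx'
      exact hHM (bg_le_of_isCoatom hH hB.coatom hHleM)
    unfold RankLE at hnthin
    push Not at hnthin
    obtain ⟨t, ht, hfat⟩ := hnthin
    have htp : t ≠ p := by
      rintro rfl
      exact hfat (hno1401 H hH)
    have hr : PRankLE s 2 ↥H := by
      by_contra h
      exact hHM (bg_le_of_isCoatom hH hB.coatom (hc H hH.1 hAH h))
    exact ⟨H, t, ⟨hH, hAH, hKH, ht, htp, hfat⟩, hHM, hle, hr⟩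
  -- Theorem T: the coatom of a base is the only coatom over `C_G(e1)`
  have hT : ∀ (M : Subgroup G) (s : ℕ), IsBase p A M s → ∀ H' : Subgroup G, IsCoatom H' →
      Subgroup.centralizer ({e1} : Set G) ≤ H' → H' = M := by
    intro M s hB H' hH' hCH'
    haveI : Fact s.Prime := ⟨hB.prime⟩
    have hsp : s.Prime := hB.prime
    obtain ⟨X0, hX0M, hMX0, hX0s, hX0U, hX0c, ha, hb, hc⟩ := hdata M s hB
    have hX0p : ¬ p ∣ Nat.card X0 := by
      obtain ⟨k, hk⟩ := IsPGroup.iff_card.mp hX0s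
      rw [hk]
      intro h
      have h1 : p ∣ s := hp.dvd_of_dvd_pow h
      exact hB.ne ((Nat.prime_dvd_prime_iff_eq hp hsp).mp h1).symm
    have hEX0 : E ≤ Subgroup.normalizer (X0 : Set G) := (hEA.trans hB.le).trans hMX0
    have hX0e1 : X0 ≤ Subgroup.centralizer ({e1} : Set G) := by
      apply hPG G p E X0 _ hEEA hE3 hX0p hEX0
      intro D hDE hDnc x hx
      rw [Subgroup.mem_centralizer_iff]
      intro y hy
      rw [Set.mem_singleton_iff] at hy
      subst hy
      by_contra hne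
      obtain ⟨H, t, hBH, hHM, hle, hr⟩ :=
        hstep M s hB X0 hX0M hMX0 hX0s hX0c ha hb hc D hDE hDnc y he1A x hx hne
      obtain ⟨-, -, -, -, -, -, haH, -, -⟩ := hdata H t hBH
      have hNA : Subgroup.normalizer (A : Set G) ≤ H := haH A hAp le_rfl
      have he1HH : y ∈ ⁅H, H⁆ := Subgroup.commutator_mono hNA hNA he1c
      have hcop : (orderOf y).Coprime s := by
        rw [he1o]
        exact (Nat.coprime_primes hp hsp).mpr hB.ne.symm
      have hyN : y ∈ Subgroup.normalizer ((X0 ⊓ Subgroup.centralizer (D : Set G) : Subgroup G) : Set G) := by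
        have h1 : y ∈ Subgroup.normalizer (X0 : Set G) := hMX0 (hB.le he1A)
        have h2 : y ∈ Subgroup.centralizer (D : Set G) := by
          rw [Subgroup.mem_centralizer_iff]
          intro d hd
          exact hAcomm d (hEA (hDE hd)) y he1A
        have h3 : y ∈ Subgroup.normalizer ((Subgroup.centralizer (D : Set G) : Subgroup G) : Set G) :=
          Subgroup.le_normalizer h2
        rw [Subgroup.mem_normalizer_iff] at h1 h3 ⊢
        intro z
        rw [Subgroup.mem_inf, Subgroup.mem_inf, h1 z, h3 z]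
      have hyC := hPD G hG s H hBH.coatom.1 hr y he1HH hcop
        (X0 ⊓ Subgroup.centralizer (D : Set G)) (hX0s.to_le inf_le_left) hle hyN
      rw [Subgroup.mem_centralizer_iff] at hyC
      exact hne (hyC x hx).symm
    exact (bg_unique_eq hX0U hB.coatom hX0M hH' (hX0e1.trans hCH')).symm
  -- all bases have the same coatom
  have hBuniq : ∀ (M : Subgroup G) (s : ℕ) (H : Subgroup G) (t : ℕ), IsBase p A M s →
      IsBase p A H t → H = M := by
    intro M s H t hBM hBH
    obtain ⟨H1, hH1, hCH1⟩ := bg_exists_isCoatom_ge (centralizer_singleton_ne_top hs hnc he1ne)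
    rw [← hT M s hBM H1 hH1 hCH1, ← hT H t hBH H1 hH1 hCH1]
  by_cases hbase : ∃ (M : Subgroup G) (s : ℕ), IsBase p A M s
  · obtain ⟨M, s, hB⟩ := hbase
    haveI : Fact s.Prime := ⟨hB.prime⟩
    have hsp : s.Prime := hB.prime
    obtain ⟨X0, hX0M, hMX0, hX0s, hX0U, hX0c, ha, hb, hc⟩ := hdata M s hB
    have hX0p : ¬ p ∣ Nat.card X0 := by
      obtain ⟨k, hk⟩ := IsPGroup.iff_card.mp hX0s
      rw [hk]
      intro h
      have h1 : p ∣ s := hp.dvd_of_dvd_pow h
      exact hB.ne ((Nat.prime_dvd_prime_iff_eq hp hsp).mp h1).symm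
    have hEX0 : E ≤ Subgroup.normalizer (X0 : Set G) := (hEA.trans hB.le).trans hMX0
    have hEC : E ≤ Subgroup.centralizer (X0 : Set G) := by
      intro e heE
      rw [Subgroup.mem_centralizer_iff]
      intro x hxX0
      have hX0e : X0 ≤ Subgroup.centralizer ({e} : Set G) := by
        apply hPG G p E X0 _ hEEA hE3 hX0p hEX0
        intro D hDE hDnc x hx
        rw [Subgroup.mem_centralizer_iff]
        intro y hy
        rw [Set.mem_singleton_iff] at hy
        subst hy
        by_contra hne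
        obtain ⟨H, t, hBH, hHM, -, -⟩ :=
          hstep M s hB X0 hX0M hMX0 hX0s hX0c ha hb hc D hDE hDnc y (hEA heE) x hx hne
        exact hHM (hBuniq M s H t hB hBH)
      have := hX0e hxX0
      rw [Subgroup.mem_centralizer_iff] at this
      exact (this e (Set.mem_singleton e)).symm
    have hEU : InUniqueMaximal E := Cfsg.Agent.S1399.result hG X0 E hX0U hEC hEnr
    exact hnU (bg_unique_of_le' hEU hEA hAtop)
  · apply hnU
    apply hPF G hG p P A hA hA3
    intro b hbA hb1 _ H hH hCH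
    by_contra hnthin
    unfold RankLE at hnthin
    push Not at hnthin
    obtain ⟨t, ht, hfat⟩ := hnthin
    have htp : t ≠ p := by
      rintro rfl
      exact hfat (hno1401 H hH)
    exact hbase ⟨H, t, ⟨hH, (hAb b hbA).trans hCH, (hKb b hbA).trans hCH, ht, htp, hfat⟩⟩

end Cfsg.Agent.Lib.Helper41.BG95
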